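import Mathlib

/-!
# Integer lattice lemmas for the isometry argument in the group of order 108.
-/

set_option autoImplicit false
set_option linter.unusedSimpArgs false
set_option linter.unusedSectionVars false
set_option linter.unusedVariables false

namespace Cfsg.Agent.Lib.H108

section Dot

variable {I : Type*} [Fintype I]

/-- The standard bilinear form on `ℤ^I`. -/
def dot (x y : I → ℤ) : ℤ := ∑ i, x i * y i

theorem dot_comm (x y : I → ℤ) : dot x y = dot y x := by
  simp [dot, mul_comm]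

theorem dot_add_left (x y z : I → ℤ) : dot (x + y) z = dot x z + dot y z := by
  simp [dot, add_mul, Finset.sum_add_distrib]

theorem dot_add_right (x y z : I → ℤ) : dot x (y + z) = dot x y + dot x z := by
  simp [dot, mul_add, Finset.sum_add_distrib]

theorem dot_neg_left (x y : I → ℤ) : dot (-x) y = - dot x y := by
  simp [dot]

theorem dot_neg_right (x y : I → ℤ) : dot x (-y) = - dot x y := by
  simp [dot]

theorem dot_sub_left (x y z : I → ℤ) : dot (x - y) z = dot x z - dot y z := by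
  simp [dot, sub_mul, Finset.sum_sub_distrib]

theorem dot_sub_right (x y z : I → ℤ) : dot x (y - z) = dot x y - dot x z := by
  simp [dot, mul_sub, Finset.sum_sub_distrib]

theorem dot_self_nonneg (x : I → ℤ) : 0 ≤ dot x x :=
  Finset.sum_nonneg fun i _ => mul_self_nonneg _

theorem eq_zero_of_dot_self {x : I → ℤ} (h : dot x x = 0) : x = 0 := by
  funext i
  have h1 := (Finset.sum_eq_zero_iff_of_nonneg (fun i _ => mul_self_nonneg (x i))).1 h i (Finset.mem_univ _)
  simpa using h1

theorem cs (x y : I → ℤ) : (dot x y) ^ 2 ≤ dot x x * dot y y := by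
  have := Finset.sum_mul_sq_le_sq_mul_sq (Finset.univ) x y
  simpa [dot, sq] using this

theorem dot_cases {x y : I → ℤ} (hx : dot x x = 1) (hy : dot y y = 1) :
    dot x y = 1 ∨ dot x y = 0 ∨ dot x y = -1 := by
  have h := cs x y
  rw [hx, hy] at h
  have h1 : dot x y ≤ 1 := by nlinarith
  have h2 : -1 ≤ dot x y := by nlinarith
  omega

theorem eq_of_dot_one {x y : I → ℤ} (hx : dot x x = 1) (hy : dot y y = 1) (h : dot x y = 1) :
    x = y := by
  have h1 : dot (x - y) (x - y) = 0 := by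
    simp only [dot_sub_left, dot_sub_right]
    rw [dot_comm y x]
    omega
  exact sub_eq_zero.mp (eq_zero_of_dot_self h1)

theorem eq_neg_of_dot_neg_one {x y : I → ℤ} (hx : dot x x = 1) (hy : dot y y = 1)
    (h : dot x y = -1) : x = -y := by
  have h1 : dot (x + y) (x + y) = 0 := by
    simp only [dot_add_left, dot_add_right]
    rw [dot_comm y x]
    omega
  have := eq_zero_of_dot_self h1
  exact eq_neg_of_add_eq_zero_left this

theorem bound_of_norm {v x : I → ℤ} (hv : dot v v ≤ 3) (hx : dot x x = 1) :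
    dot v x ≤ 1 ∧ -1 ≤ dot v x := by
  have h := cs v x
  rw [hx] at h
  have h0 := dot_self_nonneg v
  constructor <;> nlinarith

variable [DecidableEq I]

/-- Basis vectors. -/
def ee (i : I) : I → ℤ := Pi.single i 1

theorem dot_ee_right (x : I → ℤ) (i : I) : dot x (ee i) = x i := by
  simp [dot, ee, Pi.single_apply]

theorem dot_ee_left (x : I → ℤ) (i : I) : dot (ee i) x = x i := by
  rw [dot_comm, dot_ee_right]

theorem dot_ee_ee (i j : I) : dot (ee i) (ee j) = if i = j then 1 else 0 := by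
  rw [dot_ee_right]
  simp [ee, Pi.single_apply, eq_comm]

theorem ee_self (i : I) : ee i i = 1 := by simp [ee]

theorem unit_eq {x : I → ℤ} (h : dot x x = 1) : ∃ i, x = ee i ∨ x = - ee i := by
  have hne : ∃ i, x i ≠ 0 := by
    by_contra hc
    push Not at hc
    have : dot x x = 0 := by simp [dot, hc]
    omega
  obtain ⟨i, hi⟩ := hne
  have hi2 : 0 < x i * x i := by
    rcases lt_or_gt_of_ne hi with h1 | h1 <;> nlinarith
  have hle : x i * x i ≤ 1 := by
    rw [← h]
    exact Finset.single_le_sum (f := fun i => x i * x i) (fun j _ => mul_self_nonneg _) (Finset.mem_univ i)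
  have hoth : ∀ j, j ≠ i → x j = 0 := by
    intro j hj
    by_contra hne
    have hj2 : 0 < x j * x j := by
      rcases lt_or_gt_of_ne hne with h1 | h1 <;> nlinarith
    have h6 : x j * x j + x i * x i ≤ ∑ k, x k * x k :=
      Finset.add_le_sum (f := fun k => x k * x k) (s := Finset.univ)
        (fun k _ => mul_self_nonneg _) (Finset.mem_univ _) (Finset.mem_univ _) hj
    have : dot x x = ∑ k, x k * x k := rfl
    omega
  have hv : x i = 1 ∨ x i = -1 := by
    have h1 : x i ≤ 1 := by nlinarith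
    have h2 : -1 ≤ x i := by nlinarith
    omega
  refine ⟨i, ?_⟩
  rcases hv with hv | hv
  · left
    funext j
    by_cases hj : j = i
    · subst hj; simp [ee, hv]
    · simp [ee, hj, hoth j hj]
  · right
    funext j
    by_cases hj : j = i
    · subst hj; simp [ee, hv]
    · simp [ee, hj, hoth j hj]

theorem norm_two {x : I → ℤ} (h : dot x x = 2) :
    ∃ i j, i ≠ j ∧ (x = ee i + ee j ∨ x = ee i - ee j ∨ x = - ee i - ee j) := by
  have hne : ∃ i, x i ≠ 0 := by
    by_contra hc
    push Not at hc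
    have : dot x x = 0 := by simp [dot, hc]
    omega
  obtain ⟨i, hi⟩ := hne
  have hi2 : 0 < x i * x i := by
    rcases lt_or_gt_of_ne hi with h1 | h1 <;> nlinarith
  have hle : x i * x i ≤ 2 := by
    rw [← h]
    exact Finset.single_le_sum (f := fun i => x i * x i) (fun j _ => mul_self_nonneg _) (Finset.mem_univ i)
  have hv : x i = 1 ∨ x i = -1 := by
    have h1 : x i ≤ 1 := by nlinarith
    have h2 : -1 ≤ x i := by nlinarith
    omega
  rcases hv with hv | hv
  · have hy : dot (x - ee i) (x - ee i) = 1 := by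
      rw [dot_sub_left, dot_sub_right, dot_sub_right, dot_ee_right, dot_ee_right, dot_ee_left, ee_self, h, hv]; norm_num
    obtain ⟨j, hj⟩ := unit_eq hy
    have hij : i ≠ j := by
      rintro rfl
      rcases hj with hj | hj
      · have := congrFun hj i
        simp [ee, hv] at this
      · have := congrFun hj i
        simp [ee, hv] at this
    refine ⟨i, j, hij, ?_⟩
    rcases hj with hj | hj
    · left
      rw [← hj]; abel
    · right; left
      have : x = ee i + (x - ee i) := by abel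
      rw [this, hj]; abel
  · have hy : dot (x + ee i) (x + ee i) = 1 := by
      rw [dot_add_left, dot_add_right, dot_add_right, dot_ee_right, dot_ee_right, dot_ee_left, ee_self, h, hv]; norm_num
    obtain ⟨j, hj⟩ := unit_eq hy
    have hij : i ≠ j := by
      rintro rfl
      rcases hj with hj | hj
      · have := congrFun hj i
        simp [ee, hv] at this
      · have := congrFun hj i
        simp [ee, hv] at this
    rcases hj with hj | hj
    · -- `x = e j - e i`
      refine ⟨j, i, hij.symm, Or.inr (Or.inl ?_)⟩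
      have : x = (x + ee i) - ee i := by abel
      rw [this, hj]
    · refine ⟨i, j, hij, Or.inr (Or.inr ?_)⟩
      have : x = (x + ee i) - ee i := by abel
      rw [this, hj]; abel

/-- A norm two vector of small degree is a difference of two basis vectors. -/
theorem norm_two_diff {x d : I → ℤ} (h : dot x x = 2) (hd : ∀ i, 0 < d i)
    (h1 : dot x d < 2) (h2 : -2 < dot x d) : ∃ i j, i ≠ j ∧ x = ee i - ee j := by
  obtain ⟨i, j, hij, hx⟩ := norm_two h
  rcases hx with hx | hx | hx
  · exfalso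
    rw [hx, dot_add_left, dot_ee_left, dot_ee_left] at h1
    have := hd i; have := hd j
    omega
  · exact ⟨i, j, hij, hx⟩
  · exfalso
    rw [hx, dot_sub_left, dot_neg_left, dot_ee_left, dot_ee_left] at h2
    have := hd i; have := hd j
    omega

theorem dot_diff_diff (a b c d : I) : dot (ee a - ee b) (ee c - ee d) =
    (if a = c then 1 else 0) - (if a = d then 1 else 0) - (if b = c then 1 else 0)
      + (if b = d then 1 else 0) := by
  simp only [dot_sub_left, dot_sub_right, dot_ee_ee]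
  ring

end Dot

section PartB

variable {I : Type*} [Fintype I]

/-- Abbreviations for the expansions. -/
theorem dot_ρ_cases {ρ : Fin 3 → Bool → I → ℤ}
    (hρ : ∀ i b j c, dot (ρ i b) (ρ j c) = if i = j ∧ b = c then 1 else 0)
    (i : Fin 3) (b : Bool) : dot (ρ i b) (ρ i b) = 1 := by
  rw [hρ]; simp

theorem splitA {ρ : Fin 3 → Bool → I → ℤ}
    (hρ : ∀ i b j c, dot (ρ i b) (ρ j c) = if i = j ∧ b = c then 1 else 0)
    {i j k : Fin 3} (hij : i ≠ j) (hik : i ≠ k) (hjk : j ≠ k) {A : I → ℤ} (hA : dot A A = 3)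
    (h1 : dot A (ρ i true) + dot A (ρ i false) = 1)
    (h2 : dot A (ρ j true) + dot A (ρ j false) = 1)
    (h3 : dot A (ρ k true) + dot A (ρ k false) = 0) :
    ∃ bi bj : Bool, dot A (ρ i bi) = 1 ∧ dot A (ρ i (!bi)) = 0 ∧ dot A (ρ j bj) = 1 ∧
      dot A (ρ j (!bj)) = 0 ∧ ∀ b, dot A (ρ k b) = 0 := by
  have hn : ∀ l b, dot A (ρ l b) ≤ 1 ∧ -1 ≤ dot A (ρ l b) := fun l b =>
    bound_of_norm (le_of_eq hA) (dot_ρ_cases hρ l b)
  have key : ∀ l, dot A (ρ l true) + dot A (ρ l false) = 1 →
      ∃ b : Bool, dot A (ρ l b) = 1 ∧ dot A (ρ l (!b)) = 0 := by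
    intro l hl
    have a1 := hn l true
    have a2 := hn l false
    by_cases hc : dot A (ρ l true) = 1
    · exact ⟨true, hc, by simp only [Bool.not_true]; omega⟩
    · exact ⟨false, by omega, by simp only [Bool.not_false]; omega⟩
  obtain ⟨bi, hb1, hb2⟩ := key i h1
  obtain ⟨bj, hb3, hb4⟩ := key j h2
  refine ⟨bi, bj, hb1, hb2, hb3, hb4, ?_⟩
  have h0 : dot A (ρ k true) = 0 := by
    have a1 := hn k true
    have a2 := hn k false
    by_contra hne
    have hc : (dot A (ρ k true) = 1 ∧ dot A (ρ k false) = -1) ∨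
        (dot A (ρ k true) = -1 ∧ dot A (ρ k false) = 1) := by omega
    rcases hc with ⟨c1, c2⟩ | ⟨c1, c2⟩
    · have := dot_self_nonneg (A - ρ i bi - ρ j bj - ρ k true + ρ k false)
      simp only [dot_sub_left, dot_sub_right, dot_add_left, dot_add_right, hρ] at this
      rw [dot_comm (ρ i bi) A, dot_comm (ρ j bj) A, dot_comm (ρ k true) A, dot_comm (ρ k false) A] at this
      simp [hij, hik, hjk, hij.symm, hik.symm, hjk.symm] at this
      omega
    · have := dot_self_nonneg (A - ρ i bi - ρ j bj + ρ k true - ρ k false)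
      simp only [dot_sub_left, dot_sub_right, dot_add_left, dot_add_right, hρ] at this
      rw [dot_comm (ρ i bi) A, dot_comm (ρ j bj) A, dot_comm (ρ k true) A, dot_comm (ρ k false) A] at this
      simp [hij, hik, hjk, hij.symm, hik.symm, hjk.symm] at this
      omega
  intro b
  cases b
  · omega
  · exact h0

theorem splitF {ρ : Fin 3 → Bool → I → ℤ}
    (hρ : ∀ i b j c, dot (ρ i b) (ρ j c) = if i = j ∧ b = c then 1 else 0)
    {i j k : Fin 3} (hij : i ≠ j) (hik : i ≠ k) (hjk : j ≠ k) {F : I → ℤ} (hF : dot F F = 2)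
    (h1 : dot F (ρ i true) + dot F (ρ i false) = 1)
    (h2 : dot F (ρ j true) + dot F (ρ j false) = 0)
    (h3 : dot F (ρ k true) + dot F (ρ k false) = 0) :
    ∃ bi : Bool, dot F (ρ i bi) = 1 ∧ dot F (ρ i (!bi)) = 0 ∧ (∀ b, dot F (ρ j b) = 0) ∧
      ∀ b, dot F (ρ k b) = 0 := by
  have hn : ∀ l b, dot F (ρ l b) ≤ 1 ∧ -1 ≤ dot F (ρ l b) := fun l b =>
    bound_of_norm (by omega) (dot_ρ_cases hρ l b)
  have key : ∀ l, dot F (ρ l true) + dot F (ρ l false) = 1 →
      ∃ b : Bool, dot F (ρ l b) = 1 ∧ dot F (ρ l (!b)) = 0 := by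
    intro l hl
    have a1 := hn l true
    have a2 := hn l false
    by_cases hc : dot F (ρ l true) = 1
    · exact ⟨true, hc, by simp only [Bool.not_true]; omega⟩
    · exact ⟨false, by omega, by simp only [Bool.not_false]; omega⟩
  obtain ⟨bi, hb1, hb2⟩ := key i h1
  have zero : ∀ l, i ≠ l → dot F (ρ l true) + dot F (ρ l false) = 0 → ∀ b, dot F (ρ l b) = 0 := by
    intro l hl hl2
    have h0 : dot F (ρ l true) = 0 := by
      have a1 := hn l true
      have a2 := hn l false
      by_contra hne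
      have hc : (dot F (ρ l true) = 1 ∧ dot F (ρ l false) = -1) ∨
          (dot F (ρ l true) = -1 ∧ dot F (ρ l false) = 1) := by omega
      rcases hc with ⟨c1, c2⟩ | ⟨c1, c2⟩
      · have := dot_self_nonneg (F - ρ i bi - ρ l true + ρ l false)
        simp only [dot_sub_left, dot_sub_right, dot_add_left, dot_add_right, hρ] at this
        rw [dot_comm (ρ i bi) F, dot_comm (ρ l true) F, dot_comm (ρ l false) F] at this
        simp [hl, hl.symm] at this
        omega
      · have := dot_self_nonneg (F - ρ i bi + ρ l true - ρ l false)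
        simp only [dot_sub_left, dot_sub_right, dot_add_left, dot_add_right, hρ] at this
        rw [dot_comm (ρ i bi) F, dot_comm (ρ l true) F, dot_comm (ρ l false) F] at this
        simp [hl, hl.symm] at this
        omega
    intro b
    cases b
    · omega
    · exact h0
  exact ⟨bi, hb1, hb2, zero j hij h2, zero k hik h3⟩

theorem bool_cases (c b : Bool) : c = b ∨ c = !b := by
  cases c <;> cases b <;> simp

theorem fin3_cases : ∀ i j k l : Fin 3, i ≠ j → i ≠ k → j ≠ k → l = i ∨ l = j ∨ l = k := by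
  decide

theorem residA {ρ : Fin 3 → Bool → I → ℤ}
    (hρ : ∀ i b j c, dot (ρ i b) (ρ j c) = if i = j ∧ b = c then 1 else 0)
    {i j k : Fin 3} (hij : i ≠ j) (hik : i ≠ k) (hjk : j ≠ k) {A : I → ℤ} (hA : dot A A = 3)
    {bi bj : Bool} (h1 : dot A (ρ i bi) = 1) (h1' : dot A (ρ i (!bi)) = 0)
    (h2 : dot A (ρ j bj) = 1) (h2' : dot A (ρ j (!bj)) = 0) (h3 : ∀ b, dot A (ρ k b) = 0) :
    ∃ w : I → ℤ, A = ρ i bi + ρ j bj + w ∧ dot w w = 1 ∧ ∀ l c, dot w (ρ l c) = 0 := by
  refine ⟨A - ρ i bi - ρ j bj, by abel, ?_, ?_⟩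
  · simp only [dot_sub_left, dot_sub_right, hρ]
    rw [dot_comm (ρ i bi) A, dot_comm (ρ j bj) A]
    simp [hij, hij.symm, hA, h1, h2]
  · intro l c
    simp only [dot_sub_left, hρ]
    rcases fin3_cases i j k l hij hik hjk with rfl | rfl | rfl
    · rcases bool_cases c bi with rfl | rfl
      · simp [hij, hij.symm, h1]
      · simp [hij, hij.symm, h1']
    · rcases bool_cases c bj with rfl | rfl
      · simp [hij, hij.symm, h2]
      · simp [hij, hij.symm, h2']
    · simp [hik, hjk, h3]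

theorem residF {ρ : Fin 3 → Bool → I → ℤ}
    (hρ : ∀ i b j c, dot (ρ i b) (ρ j c) = if i = j ∧ b = c then 1 else 0)
    {i j k : Fin 3} (hij : i ≠ j) (hik : i ≠ k) (hjk : j ≠ k) {F : I → ℤ} (hF : dot F F = 2)
    {bi : Bool} (h1 : dot F (ρ i bi) = 1) (h1' : dot F (ρ i (!bi)) = 0)
    (h2 : ∀ b, dot F (ρ j b) = 0) (h3 : ∀ b, dot F (ρ k b) = 0) :
    ∃ w : I → ℤ, F = ρ i bi + w ∧ dot w w = 1 ∧ ∀ l c, dot w (ρ l c) = 0 := by
  refine ⟨F - ρ i bi, by abel, ?_, ?_⟩
  · simp only [dot_sub_left, dot_sub_right, hρ]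
    rw [dot_comm (ρ i bi) F]
    simp [hF, h1]
  · intro l c
    simp only [dot_sub_left, hρ]
    rcases fin3_cases i j k l hij hik hjk with rfl | rfl | rfl
    · rcases bool_cases c bi with rfl | rfl
      · simp [h1]
      · simp [h1']
    · simp [hij, h2]
    · simp [hik, h3]

/-- Extract a product equation in the `partB` configuration. -/
theorem dot_three_three {u₁ u₂ u₃ v₁ v₂ v₃ : I → ℤ} :
    dot (u₁ + u₂ + u₃) (v₁ + v₂ + v₃) = dot u₁ v₁ + dot u₁ v₂ + dot u₁ v₃ + dot u₂ v₁ + dot u₂ v₂ +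
      dot u₂ v₃ + dot u₃ v₁ + dot u₃ v₂ + dot u₃ v₃ := by
  simp only [dot_add_left, dot_add_right]; ring

/-- The central step. -/
theorem partB {ρ : Fin 3 → Bool → I → ℤ}
    (hρ : ∀ i b j c, dot (ρ i b) (ρ j c) = if i = j ∧ b = c then 1 else 0)
    {A F : Fin 3 → I → ℤ}
    (hAA : ∀ k l, dot (A k) (A l) = if k = l then 3 else 1)
    (hAρ : ∀ k i, dot (A k) (ρ i true) + dot (A k) (ρ i false) = if i = k then 0 else 1)
    (hFF : ∀ k l, dot (F k) (F l) = if k = l then 2 else 0)
    (hFρ : ∀ k i, dot (F k) (ρ i true) + dot (F k) (ρ i false) = if i = k then 1 else 0)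
    (hFA : ∀ k l, dot (F k) (A l) = if k = l then 1 else 0) :
    ∃ (b : Fin 3 → Bool) (w : Fin 3 → I → ℤ),
      (∀ i j, dot (w i) (w j) = if i = j then 1 else 0) ∧
      (∀ i j c, dot (w i) (ρ j c) = 0) ∧
      A 0 = ρ 1 (b 1) + ρ 2 (b 2) + w 0 ∧
      A 1 = ρ 0 (b 0) + ρ 2 (b 2) + w 1 ∧
      A 2 = ρ 0 (b 0) + ρ 1 (b 1) + w 2 ∧
      ∀ i, F i = ρ i (!b i) + w i := by
  have hs : ∀ i b, dot (ρ i b) (ρ i b) = 1 := dot_ρ_cases hρ
  have h3 : ∀ k, dot (A k) (A k) = 3 := fun k => by rw [hAA]; simp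
  have h2 : ∀ k, dot (F k) (F k) = 2 := fun k => by rw [hFF]; simp
  obtain ⟨b01, b02, a01, a01', a02, a02', a00⟩ := splitA hρ (i := 1) (j := 2) (k := 0) (by decide) (by decide) (by decide)
    (A := A 0) (h3 0) (by rw [hAρ]; simp) (by rw [hAρ]; simp) (by rw [hAρ]; simp)
  obtain ⟨b10, b12, a10, a10', a12, a12', a11⟩ := splitA hρ (i := 0) (j := 2) (k := 1) (by decide) (by decide) (by decide)
    (A := A 1) (h3 1) (by rw [hAρ]; simp) (by rw [hAρ]; simp) (by rw [hAρ]; simp)
  obtain ⟨b20, b21, a20, a20', a21, a21', a22⟩ := splitA hρ (i := 0) (j := 1) (k := 2) (by decide) (by decide) (by decide)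
    (A := A 2) (h3 2) (by rw [hAρ]; simp) (by rw [hAρ]; simp) (by rw [hAρ]; simp)
  obtain ⟨c0, f00, f00', f01, f02⟩ := splitF hρ (i := 0) (j := 1) (k := 2) (by decide) (by decide) (by decide)
    (F := F 0) (h2 0) (by rw [hFρ]; simp) (by rw [hFρ]; simp) (by rw [hFρ]; simp)
  obtain ⟨c1, f11, f11', f10, f12⟩ := splitF hρ (i := 1) (j := 0) (k := 2) (by decide) (by decide) (by decide)
    (F := F 1) (h2 1) (by rw [hFρ]; simp) (by rw [hFρ]; simp) (by rw [hFρ]; simp)
  obtain ⟨c2, f22, f22', f20, f21⟩ := splitF hρ (i := 2) (j := 0) (k := 1) (by decide) (by decide) (by decide)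
    (F := F 2) (h2 2) (by rw [hFρ]; simp) (by rw [hFρ]; simp) (by rw [hFρ]; simp)
  obtain ⟨w0, hA0, hw0, hw0ρ⟩ := residA hρ (i := 1) (j := 2) (k := 0) (by decide) (by decide) (by decide) (h3 0) a01 a01' a02 a02' a00
  obtain ⟨w1, hA1, hw1, hw1ρ⟩ := residA hρ (i := 0) (j := 2) (k := 1) (by decide) (by decide) (by decide) (h3 1) a10 a10' a12 a12' a11
  obtain ⟨w2, hA2, hw2, hw2ρ⟩ := residA hρ (i := 0) (j := 1) (k := 2) (by decide) (by decide) (by decide) (h3 2) a20 a20' a21 a21' a22
  obtain ⟨x0, hF0, hx0, hx0ρ⟩ := residF hρ (i := 0) (j := 1) (k := 2) (by decide) (by decide) (by decide) (h2 0) f00 f00' f01 f02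
  obtain ⟨x1, hF1, hx1, hx1ρ⟩ := residF hρ (i := 1) (j := 0) (k := 2) (by decide) (by decide) (by decide) (h2 1) f11 f11' f10 f12
  obtain ⟨x2, hF2, hx2, hx2ρ⟩ := residF hρ (i := 2) (j := 0) (k := 1) (by decide) (by decide) (by decide) (h2 2) f22 f22' f20 f21
  -- the residues of the `F`s
  have e0 : x0 = w0 := by
    refine eq_of_dot_one hx0 hw0 ?_
    have h := hFA 0 0
    rw [hF0, hA0] at h
    simp only [dot_add_left, dot_add_right, hρ, hx0ρ] at h
    rw [dot_comm (ρ 0 c0) w0, hw0ρ] at h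
    simpa using h
  have e1 : x1 = w1 := by
    refine eq_of_dot_one hx1 hw1 ?_
    have h := hFA 1 1
    rw [hF1, hA1] at h
    simp only [dot_add_left, dot_add_right, hρ, hx1ρ] at h
    rw [dot_comm (ρ 1 c1) w1, hw1ρ] at h
    simpa using h
  have e2 : x2 = w2 := by
    refine eq_of_dot_one hx2 hw2 ?_
    have h := hFA 2 2
    rw [hF2, hA2] at h
    simp only [dot_add_left, dot_add_right, hρ, hx2ρ] at h
    rw [dot_comm (ρ 2 c2) w2, hw2ρ] at h
    simpa using h
  subst e0 e1 e2
  have o01 : dot x0 x1 = 0 := by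
    have h := hFF 0 1
    rw [hF0, hF1] at h
    simp only [dot_add_left, dot_add_right, hρ, hx0ρ] at h
    rw [dot_comm (ρ 0 c0) x1, hx1ρ] at h
    simpa using h
  have o02 : dot x0 x2 = 0 := by
    have h := hFF 0 2
    rw [hF0, hF2] at h
    simp only [dot_add_left, dot_add_right, hρ, hx0ρ] at h
    rw [dot_comm (ρ 0 c0) x2, hx2ρ] at h
    simpa using h
  have o12 : dot x1 x2 = 0 := by
    have h := hFF 1 2
    rw [hF1, hF2] at h
    simp only [dot_add_left, dot_add_right, hρ, hx1ρ] at h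
    rw [dot_comm (ρ 1 c1) x2, hx2ρ] at h
    simpa using h
  -- agreement of the signs
  have e10 : b10 = b20 := by
    have h := hAA 1 2
    rw [hA1, hA2] at h
    simp only [dot_three_three, hρ, hx1ρ] at h
    rw [dot_comm (ρ 0 b10) x2, dot_comm (ρ 2 b12) x2, hx2ρ, hx2ρ, o12] at h
    by_contra hne
    simp [hne] at h
  have e01 : b01 = b21 := by
    have h := hAA 0 2
    rw [hA0, hA2] at h
    simp only [dot_three_three, hρ, hx0ρ] at h
    rw [dot_comm (ρ 1 b01) x2, dot_comm (ρ 2 b02) x2, hx2ρ, hx2ρ, o02] at h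
    by_contra hne
    simp [hne] at h
  have e02 : b02 = b12 := by
    have h := hAA 0 1
    rw [hA0, hA1] at h
    simp only [dot_three_three, hρ, hx0ρ] at h
    rw [dot_comm (ρ 1 b01) x1, dot_comm (ρ 2 b02) x1, hx1ρ, hx1ρ, o01] at h
    by_contra hne
    simp [hne] at h
  subst e10 e01 e02
  have e0' : c0 = !b10 := by
    have h := hFA 0 2
    rw [hF0, hA2] at h
    simp only [dot_add_left, dot_add_right, hρ, hx0ρ] at h
    rw [dot_comm (ρ 0 c0) x2, hx2ρ, o02] at h
    rcases bool_cases c0 b10 with rfl | rfl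
    · simp at h
    · rfl
  have e1' : c1 = !b01 := by
    have h := hFA 1 2
    rw [hF1, hA2] at h
    simp only [dot_add_left, dot_add_right, hρ, hx1ρ] at h
    rw [dot_comm (ρ 1 c1) x2, hx2ρ, o12] at h
    rcases bool_cases c1 b01 with rfl | rfl
    · simp at h
    · rfl
  have e2' : c2 = !b02 := by
    have h := hFA 2 1
    rw [hF2, hA1] at h
    simp only [dot_add_left, dot_add_right, hρ, hx2ρ] at h
    rw [dot_comm (ρ 2 c2) x1, hx1ρ, dot_comm x2 x1, o12] at h
    rcases bool_cases c2 b02 with rfl | rfl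
    · simp at h
    · rfl
  subst e0' e1' e2'
  refine ⟨![b10, b01, b02], ![x0, x1, x2], ?_, ?_, hA0, hA1, hA2, ?_⟩
  · intro i j
    fin_cases i <;> fin_cases j <;> simp [hx0, hx1, hx2, o01, o02, o12, dot_comm x1 x0, dot_comm x2 x0, dot_comm x2 x1]
  · intro i j c
    fin_cases i
    · exact hx0ρ j c
    · exact hx1ρ j c
    · exact hx2ρ j c
  · intro i
    fin_cases i
    · exact hF0
    · exact hF1
    · exact hF2

end PartB

section PartA

variable {I : Type*} [Fintype I] [DecidableEq I]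

theorem pairRel {a b c d : I} (hab : a ≠ b) (hcd : c ≠ d)
    (h : dot (ee a - ee b) (ee c - ee d) = 1) : (a = c ∧ b ≠ d) ∨ (b = d ∧ a ≠ c) := by
  rw [dot_diff_diff] at h
  by_cases h1 : a = c <;> by_cases h2 : a = d <;> by_cases h3 : b = c <;> by_cases h4 : b = d <;>
    simp only [h1, h2, h3, h4, if_true, if_false] at h ⊢ <;> first | omega | simp_all

theorem star_aux {a b : Fin 4 → I}
    (hR : ∀ k l, k ≠ l → (a k = a l ∧ b k ≠ b l) ∨ (b k = b l ∧ a k ≠ a l)) (h01 : a 0 = a 1) :
    (∀ k, a k = a 0) ∧ Function.Injective b := by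
  have hb01 : b 0 ≠ b 1 := by
    rcases hR 0 1 (by decide) with h | h
    · exact h.2
    · exact absurd h01 h.2
  have hall : ∀ k, a k = a 0 := by
    intro k
    by_cases hk0 : k = 0
    · rw [hk0]
    by_cases hk1 : k = 1
    · rw [hk1, h01]
    by_contra hne
    have h0 := hR 0 k (Ne.symm hk0)
    have h1 := hR 1 k (Ne.symm hk1)
    rcases h0 with h0 | h0
    · exact hne h0.1.symm
    rcases h1 with h1 | h1
    · exact hne (h01.trans h1.1).symm
    · exact hb01 (h0.1.trans h1.1.symm)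
  refine ⟨hall, ?_⟩
  intro k l hkl
  by_contra hne
  rcases hR k l hne with h | h
  · exact h.2 hkl
  · exact h.2 (by rw [hall k, hall l])

/-- The five `X`s. -/
theorem partX {O : Fin 5 → I → ℤ} {d : I → ℤ} (hd : ∀ i, 0 < d i)
    (hO : ∀ j k, dot (O j) (O k) = if j = k then 5 else 4) (hOd : ∀ j, dot (O j) d = 0) :
    ∃ X : Fin 5 → I → ℤ, (∀ j k, dot (X j) (X k) = if j = k then 1 else 0) ∧
      ∀ j, O 0 - O j = X 0 - X j := by
  have hD : ∀ k : Fin 4, ∃ a b : I, a ≠ b ∧ O 0 - O k.succ = ee a - ee b := by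
    intro k
    refine norm_two_diff (d := d) ?_ hd ?_ ?_
    · simp only [dot_sub_left, dot_sub_right, hO]
      simp [Fin.succ_ne_zero, (Fin.succ_ne_zero k).symm]
    · simp [dot_sub_left, hOd]
    · simp [dot_sub_left, hOd]
  choose a b hab hDk using hD
  have hR : ∀ k l, k ≠ l → (a k = a l ∧ b k ≠ b l) ∨ (b k = b l ∧ a k ≠ a l) := by
    intro k l hkl
    refine pairRel (hab k) (hab l) ?_
    rw [← hDk k, ← hDk l]
    simp only [dot_sub_left, dot_sub_right, hO]
    have h1 : k.succ ≠ l.succ := fun h => hkl (Fin.succ_injective _ h)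
    simp [Fin.succ_ne_zero, (Fin.succ_ne_zero _).symm, h1]
  rcases hR 0 1 (by decide) with h | h
  · obtain ⟨hall, hinj⟩ := star_aux hR h.1
    refine ⟨Fin.cons (ee (a 0)) (fun k => ee (b k)), ?_, ?_⟩
    · have hne : ∀ k, a 0 ≠ b k := fun k => by rw [← hall k]; exact hab k
      intro j k
      refine Fin.cases ?_ (fun j => ?_) j <;> refine Fin.cases ?_ (fun k => ?_) k
      · simp [dot_ee_ee]
      · simp [dot_ee_ee, hne k, Fin.succ_ne_zero, (Fin.succ_ne_zero _).symm]
      · simp [dot_ee_ee, (hne j).symm, Fin.succ_ne_zero]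
      · simp [dot_ee_ee, hinj.eq_iff, Fin.succ_inj]
    · intro j
      refine Fin.cases (by simp) (fun k => ?_) j
      simp only [Fin.cons_zero, Fin.cons_succ]
      rw [hDk k, hall k]
  · have hR' : ∀ k l, k ≠ l → (b k = b l ∧ a k ≠ a l) ∨ (a k = a l ∧ b k ≠ b l) :=
      fun k l hkl => (hR k l hkl).symm
    obtain ⟨hall, hinj⟩ := star_aux hR' h.1
    refine ⟨Fin.cons (- ee (b 0)) (fun k => - ee (a k)), ?_, ?_⟩
    · have hne : ∀ k, a k ≠ b 0 := fun k => by rw [← hall k]; exact hab k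
      intro j k
      refine Fin.cases ?_ (fun j => ?_) j <;> refine Fin.cases ?_ (fun k => ?_) k
      · simp [dot_ee_ee, dot_neg_left, dot_neg_right]
      · simp [dot_ee_ee, dot_neg_left, dot_neg_right, (hne k).symm, Fin.succ_ne_zero, (Fin.succ_ne_zero _).symm]
      · simp [dot_ee_ee, dot_neg_left, dot_neg_right, (hne j), Fin.succ_ne_zero]
      · simp [dot_ee_ee, dot_neg_left, dot_neg_right, hinj.eq_iff, Fin.succ_inj]
    · intro j
      refine Fin.cases (by simp) (fun k => ?_) j
      simp only [Fin.cons_zero, Fin.cons_succ]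
      rw [hDk k, hall k]
      abel

theorem bessel {X : Fin 5 → I → ℤ} (hX : ∀ j k, dot (X j) (X k) = if j = k then 1 else 0)
    {W : I → ℤ} {x : ℤ} (hW : ∀ j, dot W (X j) = x) :
    (1 ≤ x → 10 * x - 5 ≤ dot W W) ∧ (x ≤ -1 → - 10 * x - 5 ≤ dot W W) := by
  set Z := X 0 + X 1 + X 2 + X 3 + X 4 with hZ
  have h1 : dot W Z = 5 * x := by
    simp only [hZ, dot_add_right, hW]; ring
  have h2 : dot Z Z = 5 := by
    simp only [hZ, dot_add_right, dot_add_left, hX]
    decide
  have h3 := dot_self_nonneg (W - Z)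
  have h4 := dot_self_nonneg (W + Z)
  simp only [dot_sub_left, dot_sub_right, dot_add_left, dot_add_right, h2] at h3 h4
  rw [dot_comm Z W, h1] at h3 h4
  constructor <;> intro h <;> omega

theorem bessel_zero {X : Fin 5 → I → ℤ} (hX : ∀ j k, dot (X j) (X k) = if j = k then 1 else 0)
    {W : I → ℤ} {x : ℤ} (hW : ∀ j, dot W (X j) = x) (hn : dot W W ≤ 4) : x = 0 := by
  obtain ⟨h1, h2⟩ := bessel hX hW
  by_contra hne
  rcases lt_or_gt_of_ne hne with h | h
  · have := h2 (by omega); omega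
  · have := h1 (by omega); omega

/-- Multiplicities. -/
def mult : Fin 11 → Fin 4 → ℤ :=
  ![![1, 1, 0, 0], ![1, 0, 1, 0], ![1, 0, 0, 1], ![0, 0, 1, 1], ![0, 1, 0, 1], ![0, 1, 1, 0],
    ![1, 1, 1, 1], ![1, 1, 1, 1], ![1, 1, 1, 1], ![1, 1, 1, 1], ![1, 1, 1, 1]]

/-- Gram matrix. -/
def gram (l l' : Fin 11) : ℤ := (if l = l' then 1 else 0) + ∑ a, mult l a * mult l' a

theorem pairOrth {a b c d : I} (hab : a ≠ b) (hcd : c ≠ d)
    (h : dot (ee a - ee b) (ee c - ee d) = 0) : a ≠ c ∧ a ≠ d ∧ b ≠ c ∧ b ≠ d := by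
  rw [dot_diff_diff] at h
  by_cases h1 : a = c <;> by_cases h2 : a = d <;> by_cases h3 : b = c <;> by_cases h4 : b = d <;>
    simp only [h1, h2, h3, h4, if_true, if_false] at h ⊢ <;> first | omega | simp_all

theorem orth_of_sum {r r' X : I → ℤ} (hr : dot r r = 1) (hr' : dot r' r' = 1) (hX : dot X X = 1)
    (hrr : dot r r' = 0) (h : dot r X + dot r' X = 0) : dot r X = 0 ∧ dot r' X = 0 := by
  rcases dot_cases hr hX with h1 | h1 | h1
  · exfalso
    have := eq_of_dot_one hr hX h1
    subst this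
    rw [dot_comm r' r, hrr] at h
    omega
  · exact ⟨h1, by omega⟩
  · exfalso
    have := eq_neg_of_dot_neg_one hr hX h1
    subst this
    rw [dot_neg_left] at h hrr
    rw [dot_comm r' X, hX] at h
    omega

/-- Index of the labels. -/
def lb (l : Fin 11) : Fin 15 := ⟨l.val + 4, by omega⟩

/-- Index of the linear labels. -/
def la (a : Fin 4) : Fin 15 := ⟨a.val, by omega⟩

theorem gram_a : ∀ l : Fin 11, ∀ j : Fin 5, l.val < 6 → gram l ⟨j.val + 6, by omega⟩ = 2 := by
  decide +kernel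

theorem gram_o : ∀ j k : Fin 5, gram ⟨j.val + 6, by omega⟩ ⟨k.val + 6, by omega⟩ = if j = k then 5 else 4 := by
  decide +kernel

theorem gram_d : ∀ l : Fin 11, l.val < 6 → gram l l ≤ 4 := by
  decide +kernel

theorem mult_o : ∀ j : Fin 5, - mult ⟨j.val + 6, by omega⟩ 0 = -1 := by
  decide +kernel

theorem gram_r : ∀ i j : Fin 3, gram ⟨i.val, by omega⟩ ⟨j.val, by omega⟩ - mult ⟨j.val, by omega⟩ 0 - mult ⟨i.val, by omega⟩ 0 + 1 = if i = j then 2 else 0 := by
  decide +kernel

theorem mult_r : ∀ i : Fin 3, - mult ⟨i.val, by omega⟩ 0 + 1 = 0 := by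
  decide +kernel

theorem ne_of_diff_zero {a b e₀ : I} (hab : a ≠ b) (h : (ee a - ee b) e₀ = 0) : a ≠ e₀ ∧ b ≠ e₀ := by
  constructor
  · rintro rfl
    simp [ee, Pi.single_apply, hab] at h
  · rintro rfl
    simp [ee, Pi.single_apply, hab] at h

theorem lattice {V : Fin 11 → I → ℤ} {e₀ : I} {d : I → ℤ} (hd : ∀ i, 0 < d i) (hd0 : d e₀ = 1)
    (hG : ∀ l l', dot (V l) (V l') = gram l l') (he : ∀ l, V l e₀ = - mult l 0)
    (hVd : ∀ l, dot (V l) d = 0) :
    ∃ θ : Fin 15 → I → ℤ, (∀ l, dot (θ l) (θ l) = 1) ∧ θ 0 = ee e₀ ∧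
      (∀ a l, (a = 1 ∨ a = 2 ∨ a = 3) → dot (θ a) (θ l) = if a = l then 1 else 0) ∧
      ∀ l i, V l i = θ (lb l) i - ∑ a, mult l a * θ (la a) i := by
  classical
  set O : Fin 5 → I → ℤ := fun j => V ⟨j.val + 6, by omega⟩ with hOdef
  have hO : ∀ j k, dot (O j) (O k) = if j = k then 5 else 4 := by
    intro j k
    simp only [hOdef, hG]
    exact gram_o j k
  obtain ⟨X, hX, hOX⟩ := partX (O := O) hd hO (fun j => hVd _)
  have hXs : ∀ j, dot (X j) (X j) = 1 := fun j => by rw [hX]; simp
  have hee : dot (ee e₀) (ee e₀) = 1 := by rw [dot_ee_ee]; simp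
  set S := O 0 - X 0 with hS
  have hSj : ∀ j, O j = S + X j := by
    intro j
    have h1 : O j = O 0 - (O 0 - O j) := by abel
    rw [h1, hOX j, hS]; abel
  have hXj : ∀ j, X j = O j - O 0 + X 0 := by
    intro j
    have h1 : X j = X 0 - (X 0 - X j) := by abel
    rw [h1, ← hOX j]; abel
  -- the first six labels are orthogonal to the `X`s
  have hVX : ∀ l : Fin 11, l.val < 6 → ∀ j, dot (V l) (X j) = 0 := by
    intro l hl j
    have hconst : ∀ j, dot (V l) (X j) = dot (V l) (X 0) := by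
      intro j
      rw [hXj j]
      simp only [dot_add_right, dot_sub_right, hOdef, hG]
      rw [gram_a l j hl, gram_a l 0 hl]; ring
    have hnorm : dot (V l) (V l) ≤ 4 := by
      rw [hG]
      exact gram_d l hl
    have := bessel_zero hX hconst hnorm
    rw [hconst j, this]
  have hOe : ∀ j, O j e₀ = -1 := by
    intro j
    simp only [hOdef, he]
    exact mult_o j
  have heX : ∀ j, dot (ee e₀) (X j) = 0 := by
    have hconst : ∀ j, dot (ee e₀) (X j) = dot (ee e₀) (X 0) := by
      intro j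
      rw [hXj j]
      simp only [dot_add_right, dot_sub_right, dot_ee_left, hOe]
      ring
    have := bessel_zero hX hconst (by omega)
    intro j
    rw [hconst j, this]
  -- the sum part
  set s := dot S (X 0) with hs
  have hSS : dot S S = 4 - 2 * s := by
    have h1 := hO 0 0
    rw [hSj 0] at h1
    simp only [dot_add_left, dot_add_right, hX] at h1
    rw [dot_comm (X 0) S, ← hs] at h1
    simp at h1
    omega
  have hSX' : ∀ j, dot S (X j) = s := by
    intro j
    by_cases hj : j = 0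
    · rw [hj]
    have h1 := hO 0 j
    rw [hSj 0, hSj j] at h1
    simp only [dot_add_left, dot_add_right, hX] at h1
    rw [dot_comm (X 0) S, ← hs, hSS] at h1
    simp [Ne.symm hj] at h1
    omega
  have hVS : ∀ l : Fin 11, l.val < 6 → dot (V l) S = 2 := by
    intro l hl
    rw [hS, dot_sub_right, hVX l hl 0]
    simp only [hOdef, hG]
    have := gram_a l 0 hl
    simp only [Fin.val_zero] at this ⊢
    rw [this]; ring
  have h0 : s = 0 := by
    have hW : ∀ j, dot (V 0 + V 3 - S) (X j) = - s := by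
      intro j
      simp only [dot_add_left, dot_sub_left, hSX']
      rw [hVX 0 (by decide) j, hVX 3 (by decide) j]
      ring
    have hn : dot (V 0 + V 3 - S) (V 0 + V 3 - S) = 2 - 2 * s := by
      simp only [dot_add_left, dot_add_right, dot_sub_left, dot_sub_right, hG]
      rw [dot_comm S (V 0), dot_comm S (V 3), hVS 0 (by decide), hVS 3 (by decide), hSS]
      have h1 : gram 0 0 = 3 := by decide +kernel
      have h2 : gram 0 3 = 0 := by decide +kernel
      have h3 : gram 3 0 = 0 := by decide +kernel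
      have h4 : gram 3 3 = 3 := by decide +kernel
      rw [h1, h2, h3, h4]; ring
    obtain ⟨b1, b2⟩ := bessel hX hW
    rw [hn] at b1 b2
    by_contra hne
    rcases lt_or_gt_of_ne hne with h | h
    · have := b1 (by omega); omega
    · have := b2 (by omega); omega
  rw [h0] at hSS hSX'
  have hSe : S e₀ = -1 := by
    have h1 : S e₀ = dot (ee e₀) S := by rw [dot_ee_left]
    have h2 : dot (ee e₀) S = O 0 e₀ - dot (ee e₀) (X 0) := by
      rw [hS, dot_sub_right, dot_ee_left]
    rw [h1, h2, heX, hOe]; ring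
  -- the `R`s
  set R : Fin 3 → I → ℤ := fun i => V ⟨i.val, by omega⟩ + ee e₀ with hRdef
  have hRR : ∀ i j, dot (R i) (R j) = if i = j then 2 else 0 := by
    intro i j
    simp only [hRdef, dot_add_left, dot_add_right, hG, dot_ee_right, dot_ee_left, he, ee_self, Pi.add_apply]
    have := gram_r i j
    split_ifs at this ⊢ <;> omega
  have hRd : ∀ i, dot (R i) d = 1 := by
    intro i
    simp only [hRdef, dot_add_left, hVd, dot_ee_left, hd0]
    ring
  have hRe : ∀ i, R i e₀ = 0 := by
    intro i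
    simp only [hRdef, Pi.add_apply, he, ee_self]
    exact mult_r i
  have hex : ∀ i, ∃ p q : I, p ≠ q ∧ R i = ee p - ee q := by
    intro i
    refine norm_two_diff (d := d) ?_ hd ?_ ?_
    · rw [hRR]; simp
    · rw [hRd]; omega
    · rw [hRd]; omega
  choose p q hpq hRi using hex
  have hdisj : ∀ i j, i ≠ j → p i ≠ p j ∧ p i ≠ q j ∧ q i ≠ p j ∧ q i ≠ q j := by
    intro i j hij
    refine pairOrth (hpq i) (hpq j) ?_
    rw [← hRi i, ← hRi j, hRR]
    simp [hij]
  have hpe : ∀ i, p i ≠ e₀ ∧ q i ≠ e₀ := by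
    intro i
    have h1 := hRe i
    rw [hRi i] at h1
    exact ne_of_diff_zero (hpq i) h1
  set ρ : Fin 3 → Bool → I → ℤ := fun i b => if b then ee (p i) else - ee (q i) with hρdef
  have hρ : ∀ i b j c, dot (ρ i b) (ρ j c) = if i = j ∧ b = c then 1 else 0 := by
    intro i b j c
    by_cases hij : i = j
    · subst hij
      cases b <;> cases c <;>
        simp [hρdef, dot_ee_ee, dot_neg_left, dot_neg_right, hpq i, (hpq i).symm]
    · obtain ⟨d1, d2, d3, d4⟩ := hdisj i j hij
      cases b <;> cases c <;>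
        simp [hρdef, dot_ee_ee, dot_neg_left, dot_neg_right, hij, d1, d2, d3, d4]
  have hρs : ∀ i, ρ i true + ρ i false = R i := by
    intro i
    simp only [hρdef, if_true, Bool.false_eq_true, if_false]
    rw [hRi i]; abel
  have hρe : ∀ i b, dot (ρ i b) (ee e₀) = 0 := by
    intro i b
    obtain ⟨d1, d2⟩ := hpe i
    cases b <;> simp [hρdef, dot_ee_ee, dot_neg_left, d1, d2]
  have hρX : ∀ i b j, dot (ρ i b) (X j) = 0 := by
    intro i b j
    have hsum : dot (ρ i true) (X j) + dot (ρ i false) (X j) = 0 := by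
      rw [← dot_add_left, hρs i]
      simp only [hRdef, dot_add_left]
      rw [hVX ⟨i.val, by omega⟩ (by simp; omega) j, heX]; ring
    obtain ⟨o1, o2⟩ := orth_of_sum (dot_ρ_cases hρ i true) (dot_ρ_cases hρ i false) (hXs j)
      (by rw [hρ]; simp) hsum
    cases b
    · exact o2
    · exact o1
  -- the main application
  set A : Fin 3 → I → ℤ := ![V 3, V 4, V 5] with hA
  set F : Fin 3 → I → ℤ := ![V 0 + V 3 - S, V 1 + V 4 - S, V 2 + V 5 - S] with hF
  have hg : ∀ l l', dot (V l) (V l') = gram l l' := hG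
  have hVS' : ∀ l : Fin 11, l.val < 6 → dot S (V l) = 2 := fun l hl => by rw [dot_comm]; exact hVS l hl
  have hAA : ∀ k l, dot (A k) (A l) = if k = l then 3 else 1 := by
    intro k l
    fin_cases k <;> fin_cases l <;> simp [hA, hG] <;> decide +kernel
  have hAρ : ∀ k i, dot (A k) (ρ i true) + dot (A k) (ρ i false) = if i = k then 0 else 1 := by
    intro k i
    rw [← dot_add_right, hρs i]
    simp only [hRdef, dot_add_right, hG, dot_ee_right, he]
    fin_cases k <;> fin_cases i <;> simp [hA, hG, he] <;> decide +kernel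
  have hFF : ∀ k l, dot (F k) (F l) = if k = l then 2 else 0 := by
    intro k l
    fin_cases k <;> fin_cases l <;>
      simp [hF, dot_add_left, dot_add_right, dot_sub_left, dot_sub_right, hG, hSS,
        hVS' 0 (by decide), hVS' 1 (by decide), hVS' 2 (by decide), hVS' 3 (by decide),
        hVS' 4 (by decide), hVS' 5 (by decide),
        hVS 0 (by decide), hVS 1 (by decide), hVS 2 (by decide), hVS 3 (by decide),
        hVS 4 (by decide), hVS 5 (by decide)] <;> decide +kernel
  have hFρ : ∀ k i, dot (F k) (ρ i true) + dot (F k) (ρ i false) = if i = k then 1 else 0 := by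
    intro k i
    rw [← dot_add_right, hρs i]
    simp only [hRdef, dot_add_right]
    fin_cases k <;> fin_cases i <;>
      simp [hF, dot_add_left, dot_sub_left, hG, he, hSe, dot_ee_right,
        hVS' 0 (by decide), hVS' 1 (by decide), hVS' 2 (by decide)] <;> decide +kernel
  have hFA : ∀ k l, dot (F k) (A l) = if k = l then 1 else 0 := by
    intro k l
    fin_cases k <;> fin_cases l <;>
      simp [hF, hA, dot_add_left, dot_sub_left, hG,
        hVS' 3 (by decide), hVS' 4 (by decide), hVS' 5 (by decide)] <;> decide +kernel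
  obtain ⟨b, w, hww, hwρ, hA0, hA1, hA2, hFi⟩ := partB hρ hAA hAρ hFF hFρ hFA
  set u : Fin 3 → I → ℤ := fun i => ρ i (b i) with hu
  set f : Fin 3 → I → ℤ := fun i => ρ i (!b i) with hf
  have huf : ∀ i, u i + f i = R i := by
    intro i
    rw [← hρs i]
    simp only [hu, hf]
    cases b i
    · simp [add_comm]
    · simp
  have hR0 : R 0 = V 0 + ee e₀ := rfl
  have hR1 : R 1 = V 1 + ee e₀ := rfl
  have hR2 : R 2 = V 2 + ee e₀ := rfl
  have hV0 : V 0 = u 0 + f 0 - ee e₀ := by
    rw [huf 0, hR0]; abel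
  have hV1 : V 1 = u 1 + f 1 - ee e₀ := by
    rw [huf 1, hR1]; abel
  have hV2 : V 2 = u 2 + f 2 - ee e₀ := by
    rw [huf 2, hR2]; abel
  have hV3 : V 3 = u 1 + u 2 + w 0 := hA0
  have hV4 : V 4 = u 0 + u 2 + w 1 := hA1
  have hV5 : V 5 = u 0 + u 1 + w 2 := hA2
  have hF0 : V 0 + V 3 - S = f 0 + w 0 := hFi 0
  have hSeq : S = u 0 + u 1 + u 2 - ee e₀ := by
    have h1 : S = V 0 + V 3 - (V 0 + V 3 - S) := by abel
    rw [h1, hF0, hV0, hV3]; abel
  have hV6 : V 6 = S + X 0 := hSj 0
  have hV7 : V 7 = S + X 1 := hSj 1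
  have hV8 : V 8 = S + X 2 := hSj 2
  have hV9 : V 9 = S + X 3 := hSj 3
  have hV10 : V 10 = S + X 4 := hSj 4
  have huu : ∀ i j, dot (u i) (u j) = if i = j then 1 else 0 := by
    intro i j
    simp only [hu, hρ]
    by_cases hij : i = j
    · subst hij; simp
    · simp [hij]
  have hufo : ∀ i j, dot (u i) (f j) = 0 := by
    intro i j
    simp only [hu, hf, hρ]
    by_cases hij : i = j
    · subst hij; simp
    · simp [hij]
  have hff : ∀ i, dot (f i) (f i) = 1 := by
    intro i
    simp only [hf, hρ]; simp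
  have huw : ∀ i j, dot (u i) (w j) = 0 := by
    intro i j
    rw [dot_comm]; exact hwρ _ _ _
  have huX : ∀ i j, dot (u i) (X j) = 0 := fun i j => hρX _ _ _
  have hue : ∀ i, dot (u i) (ee e₀) = 0 := fun i => hρe _ _
  have hww' : ∀ i, dot (w i) (w i) = 1 := by
    intro i; rw [hww]; simp
  refine ⟨![ee e₀, - u 0, - u 1, - u 2, f 0, f 1, f 2, w 0, w 1, w 2, X 0, X 1, X 2, X 3, X 4], ?_, rfl, ?_, ?_⟩
  · intro l
    fin_cases l <;> simp [dot_neg_left, dot_neg_right, huu, hff, hww', hXs, hee]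
  · intro a l ha
    rcases ha with rfl | rfl | rfl <;> fin_cases l <;>
      simp [dot_neg_left, dot_neg_right, huu, hufo, huw, huX, hue]
  · intro l i
    fin_cases l <;> simp [lb, la, mult, Fin.sum_univ_four, hV0, hV1, hV2, hV3, hV4, hV5, hV6, hV7, hV8, hV9, hV10, hSeq] <;> ring

end PartA

end Cfsg.Agent.Lib.H108
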